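import Mathlib
import Groth.Prelude.Def_FlatCA
import Groth.Agent.Lib.Lead.QC.AnnFlat
import Groth.Agent.Lib.Lead.QC.WeakAssAlg

open TensorProduct

namespace Groth.Agent.H5.EW

universe u

open Groth.Agent.LD.QC

/-- (⇐) for flat quasi-finite algebras. -/
theorem mem_weakAss_tensor_of_mem {A B : Type u} [CommRing A] [CommRing B] [Algebra A B]
    [Module.Flat A B] [Algebra.QuasiFinite A B]
    (M : Type u) [AddCommGroup M] [Module A M] (p : Ideal A) [p.IsPrime] (u : Ideal B) [u.IsPrime]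
    [u.LiesOver p] (hp : p ∈ FlatCA.weakAss A M) : u ∈ FlatCA.weakAss B (B ⊗[A] M) := by
  rw [mem_weakAss_iff] at hp ⊢
  obtain ⟨m, hm⟩ := hp
  refine ⟨(1 : B) ⊗ₜ[A] m, ?_⟩
  have hker := ker_toSpanSingleton_baseChange_of_flat (A := A) (B := B)
    (TensorProduct.mk A B M 1) (TensorProduct.isBaseChange A M B) m
  change (LinearMap.ker (LinearMap.toSpanSingleton B (B ⊗[A] M) ((1 : B) ⊗ₜ[A] m)) : Ideal B) = _
    at hker
  rw [hker]
  have hup : u.under A = p := (Ideal.LiesOver.over (P := u) (p := p)).symm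
  refine ⟨⟨inferInstance, ?_⟩, ?_⟩
  · rw [Ideal.map_le_iff_le_comap]
    have := hm.1.2
    rwa [← hup] at this
  · rintro u' ⟨hu', hle⟩ hu'u
    haveI := hu'
    have h1 : u'.under A ≤ p := by
      rw [← hup]
      exact Ideal.comap_mono hu'u
    have h2 : u'.under A = p := by
      apply le_antisymm h1
      refine hm.2 ⟨Ideal.comap_isPrime _ _, ?_⟩ h1
      rw [← Ideal.map_le_iff_le_comap]
      exact hle
    have := Algebra.QuasiFinite.eq_of_le_of_under_eq (R := A) u' u hu'u (h2.trans hup.symm)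
    rw [this]

end Groth.Agent.H5.EW
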