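import Mathlib
import Groth.Prelude.Def_FlatCA
import Groth.Agent.Lib.Lead.QC.WeakAssIso
import Groth.Agent.Lib.Helper1.WeakAss

open TensorProduct

namespace Groth.Agent.H5.EW

universe u

open Groth.Agent.LD.QC

/-- Transport of weakly associated primes along a ring isomorphism and a semilinear bijection. -/
theorem mem_weakAss_of_ringEquiv {R R' : Type u} [CommRing R] [CommRing R'] (ψ : R ≃+* R')
    {N N' : Type u} [AddCommGroup N] [Module R N] [AddCommGroup N'] [Module R' N']
    (e : N ≃+ N') (he : ∀ (r : R) (n : N), e (r • n) = ψ r • e n) (q : Ideal R)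
    (hq : q ∈ FlatCA.weakAss R N) : q.comap (ψ.symm : R' →+* R) ∈ FlatCA.weakAss R' N' := by
  rw [mem_weakAss_iff] at hq ⊢
  obtain ⟨m, hm⟩ := hq
  refine ⟨e m, ?_⟩
  have hker : (LinearMap.ker (LinearMap.toSpanSingleton R' N' (e m)) : Ideal R') =
      Ideal.comap (ψ.symm : R' →+* R) (LinearMap.ker (LinearMap.toSpanSingleton R N m) : Ideal R) := by
    ext r'
    change r' • e m = 0 ↔ (ψ.symm r') • m = 0
    rw [← e.map_eq_zero_iff (x := ψ.symm r' • m), he, ψ.apply_symm_apply]
  rw [hker, Ideal.comap_minimalPrimes_eq_of_surjective ψ.symm.surjective]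
  exact ⟨q, hm, rfl⟩

/-- Localization of a base-changed module. -/
noncomputable def locTensorEquiv {A B : Type u} [CommRing A] [CommRing B] [Algebra A B]
    (S : Submonoid B) (M : Type u) [AddCommGroup M] [Module A M] :
    LocalizedModule S (B ⊗[A] M) ≃ₗ[Localization S] Localization S ⊗[A] M :=
  LocalizedModule.equivTensorProduct S (B ⊗[A] M) ≪≫ₗ
    TensorProduct.AlgebraTensorModule.cancelBaseChange A B (Localization S) (Localization S) M

theorem mem_weakAss_tensor_iff_localization {A B : Type u} [CommRing A] [CommRing B] [Algebra A B]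
    (S : Submonoid B) (M : Type u) [AddCommGroup M] [Module A M] (q : Ideal B) [q.IsPrime]
    (hS : Disjoint (S : Set B) (q : Set B)) :
    q ∈ FlatCA.weakAss B (B ⊗[A] M) ↔
      q.map (algebraMap B (Localization S)) ∈
        FlatCA.weakAss (Localization S) (Localization S ⊗[A] M) := by
  rw [Groth.Agent.H1.WA.mem_weakAss_iff_map_mem S q hS]
  rw [weakAss_eq_of_addEquiv (R := Localization S) (locTensorEquiv S M).toAddEquiv
    (fun r m => (locTensorEquiv S M).map_smul r m)]

end Groth.Agent.H5.EW
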