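import Mathlib
import Groth.Prelude.Def_FlatCA
import Groth.Agent.Lib.Lead.QC.WeakAssFiniteFlat
import Groth.Agent.Lib.Helper5.EW.A
import Groth.Agent.Lib.Helper5.EW.B

open TensorProduct

namespace Groth.Agent.H5.EW

universe u

open Groth.Agent.LD.QC

/-- the semilinear equivalence induced on base changes by an algebra isomorphism. -/
noncomputable def tensorCongrLeft {A R R' : Type u} [CommRing A] [CommRing R] [CommRing R']
    [Algebra A R] [Algebra A R'] (ψ : R ≃ₐ[A] R') (M : Type u) [AddCommGroup M] [Module A M] :
    R ⊗[A] M ≃ₗ[A] R' ⊗[A] M :=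
  TensorProduct.congr ψ.toLinearEquiv (LinearEquiv.refl A M)

lemma tensorCongrLeft_smul {A R R' : Type u} [CommRing A] [CommRing R] [CommRing R']
    [Algebra A R] [Algebra A R'] (ψ : R ≃ₐ[A] R') (M : Type u) [AddCommGroup M] [Module A M]
    (r : R) (n : R ⊗[A] M) :
    tensorCongrLeft ψ M (r • n) = ψ r • tensorCongrLeft ψ M n := by
  induction n using TensorProduct.induction_on with
  | zero => simp
  | tmul b m =>
    simp [tensorCongrLeft, TensorProduct.smul_tmul']
  | add x y hx hy => rw [smul_add, map_add, hx, hy, map_add, smul_add]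

theorem mem_weakAss_of_mem_tensor {A B : Type u} [CommRing A] [CommRing B] [Algebra A B]
    [Algebra.Etale A B] (M : Type u) [AddCommGroup M] [Module A M] (p : Ideal A) [p.IsPrime]
    (u : Ideal B) [u.IsPrime] [u.LiesOver p]
    (hu : u ∈ FlatCA.weakAss B (B ⊗[A] M)) : p ∈ FlatCA.weakAss A M := by
  haveI : Algebra.IsEtaleAt A u := inferInstance
  obtain ⟨g, hgu, hstd⟩ := Algebra.IsEtaleAt.exists_isStandardEtale (R := A) u
  obtain ⟨Q⟩ := hstd.nonempty_standardEtalePresentation
  -- step 1
  have hdisj : Disjoint ((Submonoid.powers g : Submonoid B) : Set B) (u : Set B) := by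
    rw [Set.disjoint_left]
    rintro _ ⟨n, rfl⟩ hn
    exact hgu (Ideal.IsPrime.mem_of_pow_mem inferInstance n hn)
  have h1 := (mem_weakAss_tensor_iff_localization (Submonoid.powers g) M u hdisj).mp hu
  -- step 2
  set C := AdjoinRoot Q.P.f with hC
  set h : C := AdjoinRoot.mk Q.P.f Q.P.g with hh
  let ψ : Localization.Away g ≃ₐ[A] Localization.Away h :=
    Q.equivRing.trans Q.P.equivAwayAdjoinRoot
  have h2 := mem_weakAss_of_ringEquiv ψ.toRingEquiv (tensorCongrLeft ψ M).toAddEquiv
    (fun r n => tensorCongrLeft_smul ψ M r n) _ h1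
  -- step 3
  set v' : Ideal (Localization.Away h) :=
    (u.map (algebraMap B (Localization.Away g))).comap
      (ψ.toRingEquiv.symm : Localization.Away h →+* Localization.Away g) with hv'
  haveI hug : (u.map (algebraMap B (Localization.Away g))).IsPrime :=
    IsLocalization.isPrime_of_isPrime_disjoint (Submonoid.powers g) _ u inferInstance hdisj
  haveI hv'p : v'.IsPrime := Ideal.comap_isPrime _ _
  set v : Ideal C := v'.comap (algebraMap C (Localization.Away h)) with hv
  haveI hvp : v.IsPrime := Ideal.comap_isPrime _ _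
  have hvmap : v.map (algebraMap C (Localization.Away h)) = v' :=
    IsLocalization.map_under (Submonoid.powers h) _ v'
  have hvdisj : Disjoint ((Submonoid.powers h : Submonoid C) : Set C) (v : Set C) :=
    ((IsLocalization.isPrime_iff_isPrime_disjoint (Submonoid.powers h) (Localization.Away h)
      v').mp hv'p).2
  have h3 : v ∈ FlatCA.weakAss C (C ⊗[A] M) := by
    rw [mem_weakAss_tensor_iff_localization (Submonoid.powers h) M v hvdisj, hvmap]
    exact h2
  -- step 4
  haveI : Module.Finite A C := Q.P.monic_f.finite_adjoinRoot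
  haveI : Module.Free A C := Q.P.monic_f.free_adjoinRoot
  have h4 := comap_mem_weakAss_of_finite (A := A) (B := C) (N := C ⊗[A] M) v h3
  -- step 6
  have hp' : Ideal.comap (algebraMap A C) v = p := by
    ext x
    rw [Ideal.mem_comap, hv, Ideal.mem_comap, hv', Ideal.mem_comap]
    have e1 : (ψ.toRingEquiv.symm : Localization.Away h →+* Localization.Away g)
        (algebraMap C (Localization.Away h) (algebraMap A C x)) =
        algebraMap B (Localization.Away g) (algebraMap A B x) := by
      rw [← IsScalarTower.algebraMap_apply A C (Localization.Away h),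
        ← IsScalarTower.algebraMap_apply A B (Localization.Away g)]
      exact ψ.symm.commutes x
    have e2 : (u.map (algebraMap B (Localization.Away g))).comap
        (algebraMap B (Localization.Away g)) = u :=
      IsLocalization.under_map_of_isPrime_disjoint (Submonoid.powers g) _ ‹u.IsPrime› hdisj
    rw [e1, ← Ideal.mem_comap, e2, Ideal.LiesOver.over (P := u) (p := p)]
    rfl
  rw [hp'] at h4
  -- step 5
  exact weakAss_tensor_subset_of_finite_flat (A := A) (B := C) M p h4

end Groth.Agent.H5.EW
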