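import Mathlib
import Groth.Prelude.Def_FlatCA
import Groth.Agent.Lib.Helper5.EW.C

open TensorProduct IsLocalRing

namespace Groth.Agent.H5.EW

universe u

open Groth.Agent.LD.QC

/-- (⇐) for flat algebras, for primes minimal over the extension. -/
theorem mem_weakAss_tensor_of_mem_of_minimal {A B : Type u} [CommRing A] [CommRing B]
    [Algebra A B] [Module.Flat A B]
    (M : Type u) [AddCommGroup M] [Module A M] (p : Ideal A) [p.IsPrime] (u : Ideal B) [u.IsPrime]
    [u.LiesOver p] (humin : u ∈ (p.map (algebraMap A B)).minimalPrimes)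
    (hp : p ∈ FlatCA.weakAss A M) : u ∈ FlatCA.weakAss B (B ⊗[A] M) := by
  rw [mem_weakAss_iff] at hp ⊢
  obtain ⟨m, hm⟩ := hp
  refine ⟨(1 : B) ⊗ₜ[A] m, ?_⟩
  have hker := ker_toSpanSingleton_baseChange_of_flat (A := A) (B := B)
    (TensorProduct.mk A B M 1) (TensorProduct.isBaseChange A M B) m
  change (LinearMap.ker (LinearMap.toSpanSingleton B (B ⊗[A] M) ((1 : B) ⊗ₜ[A] m)) : Ideal B) = _
    at hker
  rw [hker]
  have hup : u.under A = p := (Ideal.LiesOver.over (P := u) (p := p)).symm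
  refine ⟨⟨inferInstance, ?_⟩, ?_⟩
  · rw [Ideal.map_le_iff_le_comap]
    have := hm.1.2
    rwa [← hup] at this
  · rintro u' ⟨hu', hle⟩ hu'u
    haveI := hu'
    have h1 : u'.under A ≤ p := by
      rw [← hup]
      exact Ideal.comap_mono hu'u
    have h2 : u'.under A = p := by
      apply le_antisymm h1
      refine hm.2 ⟨Ideal.comap_isPrime _ _, ?_⟩ h1
      rw [← Ideal.map_le_iff_le_comap]
      exact hle
    refine humin.2 ⟨hu', ?_⟩ hu'u
    rw [Ideal.map_le_iff_le_comap]
    exact h2.ge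

/-- (2) ⇒ (3),(4) -/
theorem maximalIdeal_mem_weakAss_tensor {R S : Type u} [CommRing R] [IsLocalRing R] [CommRing S]
    [IsLocalRing S] [Algebra R S] [IsLocalHom (algebraMap R S)] [Module.Flat R S]
    (hm : (maximalIdeal R).map (algebraMap R S) = maximalIdeal S)
    (N : Type u) [AddCommGroup N] [Module R N]
    (h : maximalIdeal R ∈ FlatCA.weakAss R N) :
    maximalIdeal S ∈ FlatCA.weakAss S (S ⊗[R] N) := by
  have hco : (maximalIdeal S).comap (algebraMap R S) = maximalIdeal R :=
    ((local_hom_TFAE (algebraMap R S)).out 0 4).mp ‹IsLocalHom (algebraMap R S)›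
  haveI : (maximalIdeal S).LiesOver (maximalIdeal R) := ⟨hco.symm⟩
  refine mem_weakAss_tensor_of_mem_of_minimal N (maximalIdeal R) (maximalIdeal S) ?_ h
  rw [hm]
  exact ⟨⟨inferInstance, le_rfl⟩, fun _ hq _ => hq.2⟩

end Groth.Agent.H5.EW
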