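import Mathlib
import Groth.Prelude.Def_FlatCA
import Groth.Agent.Lib.Helper5.EW.D

open TensorProduct IsLocalRing

namespace Groth.Agent.H5.EW

universe u

open Groth.Agent.LD.QC

/-- Descent of "the maximal ideal is weakly associated" from a flat local algebra over an
essentially étale stage. -/
theorem mem_weakAss_of_stage {R : Type u} [CommRing R] (N : Type u) [AddCommGroup N] [Module R N]
    (p : Ideal R) [p.IsPrime]
    {E : Type u} [CommRing E] [Algebra R E] [Algebra.Etale R E] (q : Ideal E) [q.IsPrime]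
    [q.LiesOver p]
    {H : Type u} [CommRing H] [IsLocalRing H] [Algebra R H] [Algebra (Localization.AtPrime q) H]
    [IsScalarTower R (Localization.AtPrime q) H] [Module.Flat (Localization.AtPrime q) H]
    [IsLocalHom (algebraMap (Localization.AtPrime q) H)]
    (z' : Localization.AtPrime q ⊗[R] N)
    (hz : maximalIdeal H ∈ Ideal.minimalPrimes (LinearMap.ker (LinearMap.toSpanSingleton H
        (H ⊗[R] N)
        (TensorProduct.AlgebraTensorModule.map (Algebra.linearMap (Localization.AtPrime q) H)
          (LinearMap.id (R := R) (M := N)) z')) : Ideal H)) :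
    p ∈ FlatCA.weakAss R N := by
  set L := Localization.AtPrime q with hL
  let σ : L ⊗[R] N →ₗ[L] H ⊗[R] N :=
    TensorProduct.AlgebraTensorModule.map (Algebra.linearMap L H) (LinearMap.id (R := R) (M := N))
  have hσ : IsBaseChange H σ := by
    refine IsBaseChange.of_comp (TensorProduct.isBaseChange R N L) ?_
    convert TensorProduct.isBaseChange R N H using 1
    ext n
    simp [σ]
  have hker := ker_toSpanSingleton_baseChange_of_flat (A := L) (B := H) σ hσ z'
  change maximalIdeal H ∈ Ideal.minimalPrimes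
    (LinearMap.ker (LinearMap.toSpanSingleton H (H ⊗[R] N) (σ z')) : Ideal H) at hz
  rw [hker] at hz
  set 𝔞 : Ideal L := (LinearMap.ker (LinearMap.toSpanSingleton L (L ⊗[R] N) z') : Ideal L) with h𝔞
  haveI : Module.FaithfullyFlat L H := Module.FaithfullyFlat.of_flat_of_isLocalHom
  have hco : (maximalIdeal H).comap (algebraMap L H) = maximalIdeal L :=
    ((local_hom_TFAE (algebraMap L H)).out 0 4).mp ‹IsLocalHom (algebraMap L H)›
  have hmin : maximalIdeal L ∈ 𝔞.minimalPrimes := by
    refine ⟨⟨inferInstance, ?_⟩, ?_⟩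
    · apply IsLocalRing.le_maximalIdeal
      intro htop
      have h1 : 𝔞.map (algebraMap L H) = ⊤ := by rw [htop, Ideal.map_top]
      have h2 := hz.1.2
      rw [h1] at h2
      exact (maximalIdeal.isMaximal H).ne_top (top_le_iff.mp h2)
    · rintro Q' ⟨hQ'p, hQ'⟩ _
      obtain ⟨Q, hQ⟩ := PrimeSpectrum.comap_surjective_of_faithfullyFlat (A := L) (B := H)
        ⟨Q', hQ'p⟩
      have hQ2 : Q.asIdeal.comap (algebraMap L H) = Q' := congrArg PrimeSpectrum.asIdeal hQ
      have h3 : maximalIdeal H ≤ Q.asIdeal := by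
        refine hz.2 ⟨Q.2, ?_⟩ (IsLocalRing.le_maximalIdeal Q.2.ne_top)
        rw [Ideal.map_le_iff_le_comap, hQ2]
        exact hQ'
      rw [← hco, ← hQ2]
      exact Ideal.comap_mono h3
  have h4 : maximalIdeal L ∈ FlatCA.weakAss L (L ⊗[R] N) := by
    rw [mem_weakAss_iff]
    exact ⟨z', hmin⟩
  have hdisj : Disjoint ((q.primeCompl : Submonoid E) : Set E) (q : Set E) := by
    rw [Set.disjoint_left]
    intro x hx hxq
    exact hx hxq
  have h5 : q ∈ FlatCA.weakAss E (E ⊗[R] N) := by
    rw [mem_weakAss_tensor_iff_localization q.primeCompl N q hdisj,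
      Localization.AtPrime.map_eq_maximalIdeal]
    exact h4
  exact mem_weakAss_of_mem_tensor N p q h5

end Groth.Agent.H5.EW
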