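import Mathlib
import Groth.Prelude.Def_FlatCA
import Groth.Agent.Lib.Helper5.EW.E
import Groth.Agent.Lib.Helper8.Hens.Strict

open TensorProduct IsLocalRing

namespace Groth.Agent.H5.EW

universe u

open Groth.Agent.LD.QC Groth.Agent.H8.Hens

variable {R K : Type u} [CommRing R] [IsLocalRing R] [Field K] [Algebra R K]

/-- the map induced by a stage on base changes. -/
noncomputable def stageMap (N : Type u) [AddCommGroup N] [Module R N] (i : EtPt R K) :
    i.Loc ⊗[R] N →ₗ[R] H R K ⊗[R] N :=
  TensorProduct.map (H.ofₐ i).toLinearMap LinearMap.id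

lemma stageMap_trans (N : Type u) [AddCommGroup N] [Module R N] {i j : EtPt R K} (h : i ≤ j)
    (x : i.Loc ⊗[R] N) :
    stageMap N j (TensorProduct.map (EtPt.trans h).toLinearMap LinearMap.id x) = stageMap N i x := by
  induction x using TensorProduct.induction_on with
  | zero => simp
  | tmul a n => simp [stageMap, H.of_trans]
  | add x y hx hy => simp only [map_add, hx, hy]

theorem exists_stage (N : Type u) [AddCommGroup N] [Module R N] (z : H R K ⊗[R] N) :
    ∃ (i : EtPt R K) (z' : i.Loc ⊗[R] N), stageMap N i z' = z := by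
  induction z using TensorProduct.induction_on with
  | zero => exact ⟨Classical.arbitrary _, 0, by simp⟩
  | tmul a n =>
    obtain ⟨i, x, rfl⟩ := H.exists_of a
    exact ⟨i, x ⊗ₜ n, by simp [stageMap]⟩
  | add x y hx hy =>
    obtain ⟨i, x', rfl⟩ := hx
    obtain ⟨j, y', rfl⟩ := hy
    obtain ⟨k, hik, hjk⟩ := exists_ge_ge i j
    refine ⟨k, TensorProduct.map (EtPt.trans hik).toLinearMap LinearMap.id x' +
      TensorProduct.map (EtPt.trans hjk).toLinearMap LinearMap.id y', ?_⟩
    rw [map_add, stageMap_trans, stageMap_trans]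

/-- (3),(4) ⇒ (2) for the constructed `K`-henselization. -/
theorem maximalIdeal_mem_weakAss_of_H [IsLocalHom (algebraMap R K)]
    (N : Type u) [AddCommGroup N] [Module R N]
    (h : maximalIdeal (H R K) ∈ FlatCA.weakAss (H R K) (H R K ⊗[R] N)) :
    maximalIdeal R ∈ FlatCA.weakAss R N := by
  rw [mem_weakAss_iff] at h
  obtain ⟨z, hz⟩ := h
  obtain ⟨i, z', rfl⟩ := exists_stage N z
  letI : Algebra i.Loc (H R K) := (H.of i).toAlgebra
  haveI : IsScalarTower R i.Loc (H R K) :=
    IsScalarTower.of_algebraMap_eq fun r => H.algebraMap_eq i r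
  haveI : IsLocalHom (algebraMap i.Loc (H R K)) :=
    inferInstanceAs (IsLocalHom (H.of i))
  haveI : Algebra.FormallyUnramified R i.Loc := Algebra.FormallyUnramified.comp R i.Ring _
  haveI : Algebra.EssFiniteType R i.Loc := Algebra.EssFiniteType.comp R i.Ring _
  haveI : Module.Flat i.Loc (H R K) :=
    Algebra.FormallyUnramified.flat_of_restrictScalars R i.Loc (H R K)
  haveI : (ptIdeal i.pt).LiesOver (maximalIdeal R) := by
    constructor
    ext r
    rw [Ideal.under, Ideal.mem_comap, RingHom.mem_ker, AlgHom.commutes, mem_maximalIdeal,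
      mem_nonunits_iff]
    constructor
    · intro hr
      by_contra hK
      exact hr ((isUnit_map_iff (algebraMap R K) r).mp (isUnit_iff_ne_zero.mpr hK))
    · intro hr hu
      exact (hu.map (algebraMap R K)).ne_zero hr
  refine mem_weakAss_of_stage N (maximalIdeal R) (E := i.Ring) (ptIdeal i.pt) (H := H R K) z' ?_
  have e : ∀ w : i.Loc ⊗[R] N,
      TensorProduct.AlgebraTensorModule.map (Algebra.linearMap i.Loc (H R K))
      (LinearMap.id (R := R) (M := N)) w = stageMap N i w := by
    intro w
    induction w using TensorProduct.induction_on with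
    | zero => simp
    | tmul a n => rfl
    | add x y hx hy => rw [map_add, map_add, hx, hy]
  rw [e]
  exact hz

end Groth.Agent.H5.EW
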