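import Mathlib
import Groth.Prelude.Def_FlatCA
import Groth.Prelude.Def_Hensel
import Groth.Agent.Lib.Helper5.EW.F
import Groth.Agent.Lib.Helper8.Hens.Strict

open TensorProduct IsLocalRing

namespace Groth.Agent.H5.EW

universe u

open Groth.Agent.LD.QC Groth.Agent.H8.Hens

lemma comap_maximalIdeal_of_ringEquiv {S T : Type u} [CommRing S] [CommRing T] [IsLocalRing S]
    [IsLocalRing T] (e : S ≃+* T) :
    (maximalIdeal T).comap (e : S →+* T) = maximalIdeal S := by
  ext x
  rw [Ideal.mem_comap, mem_maximalIdeal, mem_maximalIdeal, mem_nonunits_iff, mem_nonunits_iff]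
  exact not_congr (isUnit_map_iff e x)

/-- transport (3),(4) ⇒ (2) along an algebra isomorphism with the constructed `H R K`. -/
theorem maximalIdeal_mem_weakAss_of_algEquiv {R K : Type u} [CommRing R] [IsLocalRing R] [Field K]
    [Algebra R K] [IsLocalHom (algebraMap R K)] {S : Type u} [CommRing S] [IsLocalRing S]
    [Algebra R S] (e : H R K ≃ₐ[R] S) (N : Type u) [AddCommGroup N] [Module R N]
    (h : maximalIdeal S ∈ FlatCA.weakAss S (S ⊗[R] N)) :
    maximalIdeal R ∈ FlatCA.weakAss R N := by
  apply maximalIdeal_mem_weakAss_of_H (K := K) N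
  have h1 := mem_weakAss_of_ringEquiv e.symm.toRingEquiv (tensorCongrLeft e.symm N).toAddEquiv
    (fun r n => tensorCongrLeft_smul e.symm N r n) _ h
  have h2 : (maximalIdeal S).comap ((e.symm.toRingEquiv.symm : H R K ≃+* S) : H R K →+* S) =
      maximalIdeal (H R K) := comap_maximalIdeal_of_ringEquiv _
  rw [h2] at h1
  exact h1

end Groth.Agent.H5.EW
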